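import Groth.Prelude.Def_W4c2arithlefschetzNode
import Mathlib.RingTheory.MvPowerSeries.Equiv
import Mathlib.RingTheory.MvPowerSeries.Inverse
import Mathlib.RingTheory.MvPowerSeries.NoZeroDivisors
import Mathlib.RingTheory.PowerSeries.Inverse
import Mathlib.RingTheory.DiscreteValuationRing.Basic
import Mathlib.RingTheory.Filtration
import Mathlib.RingTheory.Length
import Mathlib.RingTheory.LocalRing.ResidueField.Basic
import Mathlib.Tactic

/-! The formal double point over a discrete valuation ring. -/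

namespace NodeLib

section Gen
variable {A : Type*} [CommRing A]

/-- Length of a quotient ring. -/
noncomputable def len (I : Ideal A) : ℕ∞ := Module.length A (A ⧸ I)

theorem len_eq (I : Ideal A) : len I = Module.length A (A ⧸ I) := rfl

/-- additivity along multiplication by an element regular modulo `b` -/
theorem len_mul_sup (a b : A) (I : Ideal A) (ha : ∀ r, b ∣ a * r → b ∣ r) :
    len (Ideal.span {a} * I ⊔ Ideal.span {b}) = len (Ideal.span ({a, b} : Set A)) + len (I ⊔ Ideal.span {b}) := by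
  set P := Ideal.span {a} * I ⊔ Ideal.span {b} with hP
  set J := I ⊔ Ideal.span {b} with hJ
  set Q := Ideal.span ({a, b} : Set A) with hQ
  have hJP : ∀ r, r ∈ J → a * r ∈ P := by
    intro r hr
    obtain ⟨i, hi, z, hz, rfl⟩ := Submodule.mem_sup.1 hr
    rw [mul_add]
    exact Submodule.add_mem_sup (Ideal.mul_mem_mul (Ideal.mem_span_singleton_self a) hi) (Ideal.mul_mem_left _ _ hz)
  have hPQ : P ≤ Q := by
    refine sup_le (Ideal.mul_le_left.trans ?_) ?_ <;> rw [Ideal.span_le] <;>
      exact Set.singleton_subset_iff.2 (Ideal.subset_span (by simp))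
  let f : (A ⧸ J) →ₗ[A] (A ⧸ P) := Submodule.mapQ J P (LinearMap.lsmul A A a) fun r hr => hJP r hr
  let g : (A ⧸ P) →ₗ[A] (A ⧸ Q) := Submodule.mapQ P Q LinearMap.id hPQ
  have hf : Function.Injective f := by
    rw [injective_iff_map_eq_zero]
    intro x hx
    obtain ⟨r, rfl⟩ := Submodule.Quotient.mk_surjective J x
    change (Submodule.Quotient.mk (a * r) : A ⧸ P) = 0 at hx
    rw [Submodule.Quotient.mk_eq_zero] at hx
    obtain ⟨u, hu, z, hz, e⟩ := Submodule.mem_sup.1 hx
    obtain ⟨i, hi, rfl⟩ := Ideal.mem_span_singleton_mul.1 hu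
    have : b ∣ a * (r - i) := by
      rw [mul_sub, show a * r = a * i + z from e.symm, add_sub_cancel_left]
      exact Ideal.mem_span_singleton.1 hz
    rw [Submodule.Quotient.mk_eq_zero]
    exact Submodule.mem_sup.2 ⟨i, hi, r - i, Ideal.mem_span_singleton.2 (ha _ this), by ring⟩
  have hg : Function.Surjective g := by
    intro x
    obtain ⟨r, rfl⟩ := Submodule.Quotient.mk_surjective Q x
    exact ⟨Submodule.Quotient.mk r, rfl⟩
  have hex : Function.Exact f g := by
    intro x
    obtain ⟨r, rfl⟩ := Submodule.Quotient.mk_surjective P x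
    constructor
    · intro h
      rw [Submodule.mapQ_apply, Submodule.Quotient.mk_eq_zero, LinearMap.id_apply, hQ, Ideal.mem_span_pair] at h
      obtain ⟨p, q, e⟩ := h
      refine ⟨Submodule.Quotient.mk p, (Submodule.Quotient.eq P).2 ?_⟩
      rw [LinearMap.lsmul_apply, smul_eq_mul, ← e, show a * p - (p * a + q * b) = (-q) * b by ring]
      exact Submodule.mem_sup_right (Ideal.mul_mem_left _ _ (Ideal.mem_span_singleton_self b))
    · rintro ⟨y, hy⟩
      obtain ⟨p, rfl⟩ := Submodule.Quotient.mk_surjective J y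
      rw [← hy]
      show (Submodule.Quotient.mk (a * p) : A ⧸ Q) = 0
      rw [Submodule.Quotient.mk_eq_zero]
      exact Ideal.mul_mem_right _ _ (Ideal.subset_span (by simp))
  rw [len, len, len, Module.length_eq_add_of_exact f g hf hg hex, add_comm]

theorem pair_eq_sup (x y : A) : Ideal.span ({x, y} : Set A) = Ideal.span {x} ⊔ Ideal.span {y} := by
  rw [Ideal.span_insert]

theorem len_prod (p q x : A) (hp : ∀ r, x ∣ p * r → x ∣ r) :
    len (Ideal.span ({p * q, x} : Set A)) = len (Ideal.span ({p, x} : Set A)) + len (Ideal.span ({q, x} : Set A)) := by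
  rw [pair_eq_sup (p * q), ← Ideal.span_singleton_mul_span_singleton, len_mul_sup p x _ hp, ← pair_eq_sup]

theorem len_pow (p x : A) (hp : ∀ r, x ∣ p * r → x ∣ r) (n : ℕ) :
    len (Ideal.span ({p ^ n, x} : Set A)) = (n : ℕ∞) * len (Ideal.span ({p, x} : Set A)) := by
  induction n with
  | zero =>
    rw [pow_zero, Nat.cast_zero, zero_mul, len, Module.length_eq_zero_iff, Submodule.Quotient.subsingleton_iff,
      Ideal.eq_top_iff_one]
    exact Ideal.subset_span (by simp)
  | succ n ih => rw [pow_succ', len_prod p _ x hp, ih]; push_cast; ring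

theorem regular_of_prime [IsDomain A] {p x : A} (hp : Prime p) (hx : ¬ p ∣ x) (r : A) (h : x ∣ p * r) : x ∣ r := by
  obtain ⟨s, hs⟩ := h
  obtain ⟨s', rfl⟩ := (hp.dvd_or_dvd (hs ▸ dvd_mul_right p r)).resolve_left hx
  exact ⟨s', mul_left_cancel₀ hp.ne_zero (by rw [hs]; ring)⟩

/-- A self map of a Noetherian local ring is determined modulo an ideal by generators. -/
theorem fix_le [IsLocalRing A] [IsNoetherianRing A] (σ : A →+* A) (I : Ideal A) {n : Type*} [Fintype n] (g : n → A)
    (hg : ∀ i, g i ∈ IsLocalRing.maximalIdeal A) (hgI : ∀ i, σ (g i) - g i ∈ I) (B₀ : Set A)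
    (hB₀ : ∀ b ∈ B₀, σ b - b ∈ I) (hdec : ∀ r : A, ∃ b ∈ B₀, ∃ c : n → A, r = b + ∑ i, g i * c i) :
    ArLef.fixIdeal (σ : A → A) ≤ I := by
  rw [ArLef.fixIdeal, Ideal.span_le]
  rintro _ ⟨r, rfl⟩
  by_cases hI : I = ⊤
  · rw [hI]; trivial
  let D : A → A := fun r => σ r - r
  have hadd : ∀ x y, D (x + y) = D x + D y := fun x y => by simp only [D, map_add]; ring
  have hmul : ∀ x y, D (x * y) = σ x * D y + y * D x := fun x y => by simp only [D, map_mul]; ring
  have hgmax : ∀ i, σ (g i) ∈ IsLocalRing.maximalIdeal A := fun i => by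
    have := Submodule.add_mem _ (IsLocalRing.le_maximalIdeal hI (hgI i)) (hg i)
    rwa [sub_add_cancel] at this
  have key : ∀ m : ℕ, ∀ r, D r ∈ I ⊔ IsLocalRing.maximalIdeal A ^ m := by
    intro m
    induction m with
    | zero => intro r; simp
    | succ m ih =>
      intro r
      obtain ⟨b, hb, c, rfl⟩ := hdec r
      have hsum : D (∑ i, g i * c i) = ∑ i, D (g i * c i) := by
        simp only [D, map_sum, ← Finset.sum_sub_distrib]
      rw [hadd, hsum]
      refine add_mem (Submodule.mem_sup_left (hB₀ b hb)) (Submodule.sum_mem _ fun i _ => ?_)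
      rw [hmul]
      refine add_mem ?_ (Submodule.mem_sup_left (Ideal.mul_mem_left _ _ (hgI i)))
      obtain ⟨u, hu, v, hv, e⟩ := Submodule.mem_sup.1 (ih (c i))
      rw [← e, mul_add]
      refine add_mem (Submodule.mem_sup_left (Ideal.mul_mem_left _ _ hu)) (Submodule.mem_sup_right ?_)
      rw [pow_succ']
      exact Ideal.mul_mem_mul (hgmax i) hv
  show D r ∈ I
  haveI : Nontrivial (A ⧸ I) := Ideal.Quotient.nontrivial_iff.2 hI
  rw [← Ideal.Quotient.eq_zero_iff_mem]
  haveI : IsLocalRing (A ⧸ I) := .of_surjective' (Ideal.Quotient.mk I) Ideal.Quotient.mk_surjective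
  have hle : (IsLocalRing.maximalIdeal A).map (Ideal.Quotient.mk I) ≠ ⊤ := by
    intro h
    obtain ⟨x, hx, e⟩ := (Ideal.mem_map_iff_of_surjective _ Ideal.Quotient.mk_surjective).1 (h ▸ Submodule.mem_top : (1 : A ⧸ I) ∈ _)
    rw [← map_one (Ideal.Quotient.mk I), Ideal.Quotient.eq] at e
    have := Submodule.sub_mem _ hx (IsLocalRing.le_maximalIdeal hI e)
    rw [sub_sub_cancel] at this
    exact (IsLocalRing.maximalIdeal.isMaximal A).ne_top ((Ideal.eq_top_iff_one _).2 this)
  have h0 := Ideal.iInf_pow_eq_bot_of_isLocalRing _ hle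
  rw [Submodule.eq_bot_iff] at h0
  refine h0 _ ((Submodule.mem_iInf _).2 fun m => ?_)
  obtain ⟨u, hu, v, hv, e⟩ := Submodule.mem_sup.1 (key m r)
  rw [← e, map_add, Ideal.Quotient.eq_zero_iff_mem.2 hu, zero_add, ← Ideal.map_pow]
  exact Ideal.mem_map_of_mem _ hv

end Gen

section Node
open MvPowerSeries ArLef
variable {B : Type*} [CommRing B] [IsDomain B] [IsDiscreteValuationRing B] (π : B)

local notation "N" => NodeAlg B π
local notation "k" => IsLocalRing.ResidueField B

theorem node_ne_top (hπ : Irreducible π) :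
    Ideal.span {(X 0 * X 1 - C π : MvPowerSeries (Fin 2) B)} ≠ ⊤ := by
  rw [Ne, Ideal.span_singleton_eq_top, MvPowerSeries.isUnit_iff_constantCoeff, map_sub, map_mul, constantCoeff_X,
    zero_mul, constantCoeff_C, zero_sub, IsUnit.neg_iff]
  exact hπ.not_isUnit

theorem isLocalRing_node (hπ : Irreducible π) : IsLocalRing N :=
  haveI := Ideal.Quotient.nontrivial_iff.2 (node_ne_top π hπ)
  .of_surjective' (Ideal.Quotient.mk _) Ideal.Quotient.mk_surjective

theorem te_eq : NodeAlg.t π * NodeAlg.e π = algebraMap B N π := by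
  show Ideal.Quotient.mk _ (X 0) * Ideal.Quotient.mk _ (X 1) = Ideal.Quotient.mk _ (algebraMap B (MvPowerSeries (Fin 2) B) π)
  rw [← map_mul, Ideal.Quotient.eq, MvPowerSeries.algebraMap_apply]
  exact Ideal.subset_span rfl

theorem decomp (r : N) : ∃ (b : B) (u v : N), r = algebraMap B N b + NodeAlg.t π * u + NodeAlg.e π * v := by
  classical
  obtain ⟨f, rfl⟩ := Ideal.Quotient.mk_surjective r
  let f0 : MvPowerSeries (Fin 2) B := fun d => if d 0 = 0 ∧ d ≠ 0 then coeff d f else 0
  have h0 : ∀ d, coeff d f0 = if d 0 = 0 ∧ d ≠ 0 then coeff d f else 0 := fun d => rfl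
  obtain ⟨u, hu⟩ : (X 0 : MvPowerSeries (Fin 2) B) ∣ f - C (constantCoeff f) - f0 := by
    rw [X_dvd_iff]
    intro d hd
    rw [map_sub, map_sub, h0, coeff_C]
    by_cases hd0 : d = 0
    · subst hd0; simp
    · simp [hd, hd0]
  obtain ⟨v, hv⟩ : (X 1 : MvPowerSeries (Fin 2) B) ∣ f0 := by
    rw [X_dvd_iff]
    intro d hd
    rw [h0, if_neg]
    rintro ⟨h, h'⟩
    exact h' (Finsupp.ext fun i => by fin_cases i <;> simp [h, hd])
  refine ⟨constantCoeff f, Ideal.Quotient.mk _ u, Ideal.Quotient.mk _ v, ?_⟩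
  show _ = Ideal.Quotient.mk _ (algebraMap B (MvPowerSeries (Fin 2) B) _) + _ + _
  rw [← map_mul, ← map_mul, ← map_add, ← map_add]
  congr 1
  rw [MvPowerSeries.algebraMap_apply, ← hu, ← hv, Algebra.algebraMap_self, RingHom.id_apply]
  ring

/-- restriction to the `i`-th axis, modulo the maximal ideal -/
noncomputable def axis (i : Fin 2) : MvPowerSeries (Fin 2) B →+* PowerSeries k where
  toFun f := PowerSeries.mk fun n => IsLocalRing.residue B (coeff (Finsupp.single i n) f)
  map_one' := by
    classical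
    ext n
    rw [PowerSeries.coeff_mk, PowerSeries.coeff_one, coeff_one]
    by_cases hn : n = 0
    · simp [hn]
    · simp [hn]
  map_mul' f g := by
    classical
    ext n
    rw [PowerSeries.coeff_mk, coeff_mul, PowerSeries.coeff_mul, map_sum, Finsupp.antidiagonal_single, Finset.sum_map]
    exact Finset.sum_congr rfl fun p _ => by simp
  map_zero' := by ext n; simp
  map_add' f g := by ext n; simp

theorem coeff_axis (i : Fin 2) (n : ℕ) (f : MvPowerSeries (Fin 2) B) :
    PowerSeries.coeff n (axis i f) = IsLocalRing.residue B (coeff (Finsupp.single i n) f) := by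
  show PowerSeries.coeff n (PowerSeries.mk fun n => IsLocalRing.residue B (coeff (Finsupp.single i n) f)) = _
  rw [PowerSeries.coeff_mk]

theorem axis_X_self (i : Fin 2) : axis (B := B) i (X i) = PowerSeries.X := by
  classical
  ext n
  rw [coeff_axis, PowerSeries.coeff_X, coeff_X]
  by_cases hn : n = 1
  · simp [hn]
  · simp [hn, Finsupp.single_eq_single_iff]

theorem axis_X_ne {i j : Fin 2} (h : i ≠ j) : axis (B := B) i (X j) = 0 := by
  classical
  ext n
  rw [coeff_axis, coeff_X, if_neg]
  · simp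
  · simp [Finsupp.single_eq_single_iff, h]

theorem axis_C (i : Fin 2) (b : B) : axis (B := B) i (C b) = PowerSeries.C (IsLocalRing.residue B b) := by
  classical
  ext n
  rw [coeff_axis, PowerSeries.coeff_C, coeff_C]
  by_cases hn : n = 0
  · simp [hn]
  · simp [hn]

theorem axis_surjective (i : Fin 2) : Function.Surjective (axis (B := B) i) := by
  classical
  intro p
  choose l hl using fun n => IsLocalRing.residue_surjective (PowerSeries.coeff n p)
  let F : MvPowerSeries (Fin 2) B := fun d => if Finsupp.single i (d i) = d then l (d i) else 0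
  refine ⟨F, ?_⟩
  ext n
  rw [coeff_axis, show coeff (Finsupp.single i n) F =
    (if Finsupp.single i ((Finsupp.single i n) i) = Finsupp.single i n then l ((Finsupp.single i n) i) else 0) from rfl]
  rw [Finsupp.single_eq_same, if_pos rfl, hl]

theorem axis_node (hπ : Irreducible π) (i : Fin 2) :
    ∀ f ∈ Ideal.span {(X 0 * X 1 - C π : MvPowerSeries (Fin 2) B)}, axis (B := B) i f = 0 := by
  intro f hf
  obtain ⟨g, rfl⟩ := Ideal.mem_span_singleton.1 hf
  have hπ0 : IsLocalRing.residue B π = 0 := IsLocalRing.residue_eq_zero_iff _ |>.2 hπ.not_isUnit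
  have : i ≠ 0 ∨ i ≠ 1 := by fin_cases i <;> simp
  rw [map_mul, map_sub, map_mul, axis_C, hπ0, map_zero]
  rcases this with h | h <;> rw [axis_X_ne h] <;> simp

/-- the restriction of the node to a branch -/
noncomputable def branch (hπ : Irreducible π) (i : Fin 2) : N →+* PowerSeries k :=
  Ideal.Quotient.lift _ (axis i) (axis_node π hπ i)

theorem branch_mk (hπ : Irreducible π) (i : Fin 2) (f : MvPowerSeries (Fin 2) B) :
    branch π hπ i (Ideal.Quotient.mk _ f) = axis i f := rfl

theorem branch_surjective (hπ : Irreducible π) (i : Fin 2) : Function.Surjective (branch π hπ i) := fun p => by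
  obtain ⟨f, hf⟩ := axis_surjective i p
  exact ⟨Ideal.Quotient.mk _ f, hf⟩

theorem branch_ker (hπ : Irreducible π) (r : N) :
    (branch π hπ 1 r = 0 ↔ NodeAlg.t π ∣ r) ∧ (branch π hπ 0 r = 0 ↔ NodeAlg.e π ∣ r) := by
  classical
  have key : ∀ i j : Fin 2, i ≠ j → (Ideal.Quotient.mk _ (X j) : N) ∣ Ideal.Quotient.mk _ (C π) →
      (branch π hπ i r = 0 ↔ (Ideal.Quotient.mk _ (X j) : N) ∣ r) := by
    intro i j hij hjπ
    refine ⟨fun h => ?_, fun ⟨s, hs⟩ => by rw [hs, map_mul, branch_mk, axis_X_ne hij, zero_mul]⟩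
    obtain ⟨f, rfl⟩ := Ideal.Quotient.mk_surjective r
    rw [branch_mk] at h
    have hdvd : ∀ n, π ∣ coeff (Finsupp.single i n) f := fun n => by
      have := congrArg (PowerSeries.coeff n) h
      rw [map_zero] at this
      rw [coeff_axis, IsLocalRing.residue_eq_zero_iff, hπ.maximalIdeal_eq, Ideal.mem_span_singleton] at this
      exact this
    choose q hq using hdvd
    let g : MvPowerSeries (Fin 2) B := fun d => if d j = 0 then q (d i) else 0
    obtain ⟨s, hs⟩ : (X j : MvPowerSeries (Fin 2) B) ∣ f - C π * g := by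
      rw [X_dvd_iff]
      intro d hd
      have e : Finsupp.single i (d i) = d := by
        ext l
        rcases eq_or_ne l i with rfl | hl
        · simp
        · have : l = j := by omega
          subst this
          simp [hd, hl.symm]
      rw [map_sub, coeff_C_mul, show coeff d g = (if d j = 0 then q (d i) else 0) from rfl, if_pos hd, ← hq, e, sub_self]
    rw [sub_eq_iff_eq_add] at hs
    rw [hs, map_add, map_mul, map_mul]
    exact dvd_add (dvd_mul_right _ _) (hjπ.mul_right _)
  have hmk : (Ideal.Quotient.mk _ (C π) : N) = Ideal.Quotient.mk _ (X 0) * Ideal.Quotient.mk _ (X 1) := by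
    rw [← map_mul]; symm; rw [Ideal.Quotient.eq]; exact Ideal.subset_span rfl
  exact ⟨key 1 0 (by simp) (by rw [hmk]; exact dvd_mul_right _ _), key 0 1 (by simp) (by rw [hmk]; exact dvd_mul_left _ _)⟩

theorem branch_t (hπ : Irreducible π) : branch π hπ 1 (NodeAlg.t π) = 0 ∧ branch π hπ 0 (NodeAlg.t π) = PowerSeries.X :=
  ⟨axis_X_ne (by simp), axis_X_self 0⟩

theorem branch_e (hπ : Irreducible π) : branch π hπ 0 (NodeAlg.e π) = 0 ∧ branch π hπ 1 (NodeAlg.e π) = PowerSeries.X :=
  ⟨axis_X_ne (by simp), axis_X_self 1⟩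

theorem t_regular (hπ : Irreducible π) (r : N) (h : NodeAlg.t π * r = 0) : r = 0 := by
  classical
  obtain ⟨f, rfl⟩ := Ideal.Quotient.mk_surjective r
  rw [← map_mul, Ideal.Quotient.eq_zero_iff_mem, Ideal.mem_span_singleton] at h
  obtain ⟨g, hg⟩ := h
  obtain ⟨g', rfl⟩ : (X 0 : MvPowerSeries (Fin 2) B) ∣ g := by
    have hdvd : (X 0 : MvPowerSeries (Fin 2) B) ∣ C π * g :=
      ⟨X 1 * g - f, by rw [mul_sub, hg]; ring⟩
    rw [X_dvd_iff] at hdvd ⊢
    intro d hd
    have := hdvd d hd
    rw [coeff_C_mul, mul_eq_zero] at this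
    exact this.resolve_left hπ.ne_zero
  have hX : (X 0 : MvPowerSeries (Fin 2) B) ≠ 0 := fun e => by
    have := congrArg (coeff (Finsupp.single 0 1)) e
    rw [coeff_X, if_pos rfl, map_zero] at this
    exact one_ne_zero this
  rw [mul_left_comm] at hg
  rw [Ideal.Quotient.eq_zero_iff_mem, Ideal.mem_span_singleton]
  exact ⟨g', mul_left_cancel₀ hX hg⟩

end Node

end NodeLib
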