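import Groth.Agent.NodeLib.Smooth

/-! Residual fixed loci after removing the divisorial part. -/

namespace NodeLib
open ArLef

section Gen
variable {A : Type*} [CommRing A]

theorem mem_pair_left (x y : A) : x ∈ Ideal.span ({x, y} : Set A) := Ideal.subset_span (by simp)

theorem mem_pair_right (x y : A) : y ∈ Ideal.span ({x, y} : Set A) := Ideal.subset_span (by simp)

/-- Removing a regular factor from an ideal with two generators. -/
theorem colon_pair [IsDomain A] (D x y : A) (hD : D ≠ 0) :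
    (Ideal.span ({D * x, D * y} : Set A)).colon ({D} : Set A) = Ideal.span ({x, y} : Set A) := by
  ext r
  rw [Submodule.mem_colon_singleton, smul_eq_mul, Ideal.mem_span_pair, Ideal.mem_span_pair]
  constructor
  · rintro ⟨u, v, h⟩
    exact ⟨u, v, mul_left_cancel₀ hD (by linear_combination h)⟩
  · rintro ⟨u, v, h⟩
    exact ⟨u, v, by linear_combination D * h⟩

theorem len_unit_pair (x y : A) (hy : IsUnit y) : len (Ideal.span ({x, y} : Set A)) = 0 := by
  rw [len, Module.length_eq_zero_iff, Submodule.Quotient.subsingleton_iff]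
  exact Ideal.eq_top_of_isUnit_mem _ (mem_pair_right x y) hy

/-- Changing the second generator modulo the first. -/
theorem span_pair_congr (x y z c u : A) (hu : IsUnit u) (h : u * y + c * x = z) :
    Ideal.span ({x, y} : Set A) = Ideal.span ({x, z} : Set A) := by
  obtain ⟨u', hu'⟩ := hu.exists_left_inv
  refine le_antisymm (span_pair_le (mem_pair_left x z) ?_) (span_pair_le (mem_pair_left x y) ?_)
  · rw [show y = u' * z + (-(u' * c)) * x by linear_combination (-y) * hu' + u' * h]
    exact add_mem (Ideal.mul_mem_left _ _ (mem_pair_right x z)) (Ideal.mul_mem_left _ _ (mem_pair_left x z))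
  · rw [← h]
    exact add_mem (Ideal.mul_mem_left _ _ (mem_pair_right x y)) (Ideal.mul_mem_left _ _ (mem_pair_left x y))

end Gen

section Smooth
variable {B : Type*} [CommRing B] [IsDomain B] [IsDiscreteValuationRing B] (π : B)

local notation "P" => PowerSeries B
local notation "k" => IsLocalRing.ResidueField B

theorem prime_pi (hπ : Irreducible π) : Prime (algebraMap B P π) := by
  refine ⟨fun h => hπ.ne_zero ?_, fun h => hπ.not_isUnit ?_, fun a b h => ?_⟩
  · simpa [PowerSeries.algebraMap_apply] using congrArg PowerSeries.constantCoeff h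
  · simpa [PowerSeries.algebraMap_apply] using h.map PowerSeries.constantCoeff
  · rw [← map_eq_zero_iff_dvd π hπ, ← map_eq_zero_iff_dvd π hπ]
    rw [← map_eq_zero_iff_dvd π hπ, map_mul, mul_eq_zero] at h
    exact h

theorem len_pi_pair (hπ : Irreducible π) (f : P) :
    len (Ideal.span ({algebraMap B P π, f} : Set P)) = Module.length (PowerSeries k) (PowerSeries k ⧸
      Ideal.span ({PowerSeries.map (IsLocalRing.residue B) f} : Set (PowerSeries k))) := by
  let p := algebraMap B P π
  let φ : P →+* PowerSeries k := PowerSeries.map (IsLocalRing.residue B)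
  have hφ : Function.Surjective φ := PowerSeries.map_surjective _ IsLocalRing.residue_surjective
  letI : Algebra P (PowerSeries k) := φ.toAlgebra
  rw [← Module.length_eq_of_surjective (S := P) (R := PowerSeries k)
    (M := PowerSeries k ⧸ Ideal.span ({φ f} : Set (PowerSeries k))) hφ, len]
  refine LinearEquiv.length_eq ?_
  let L : P →ₗ[P] (PowerSeries k ⧸ Ideal.span ({φ f} : Set (PowerSeries k))) :=
    ((Ideal.span ({φ f} : Set (PowerSeries k))).mkQ.restrictScalars P).comp (Algebra.linearMap P (PowerSeries k))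
  have hL : Function.Surjective L := fun x => by
    obtain ⟨y, rfl⟩ := Submodule.Quotient.mk_surjective _ x
    obtain ⟨z, rfl⟩ := hφ y
    exact ⟨z, rfl⟩
  refine (Submodule.quotEquivOfEq _ _ ?_).trans (LinearMap.quotKerEquivOfSurjective L hL)
  refine le_antisymm (span_pair_le ?_ ?_) fun x hx => ?_
  · rw [LinearMap.mem_ker]
    show (Submodule.Quotient.mk (φ p) : PowerSeries k ⧸ Ideal.span ({φ f} : Set (PowerSeries k))) = 0
    rw [(map_eq_zero_iff_dvd π hπ p).2 dvd_rfl]
    rfl
  · rw [LinearMap.mem_ker]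
    show (Submodule.Quotient.mk (φ f) : PowerSeries k ⧸ Ideal.span ({φ f} : Set (PowerSeries k))) = 0
    rw [Submodule.Quotient.mk_eq_zero]
    exact Ideal.mem_span_singleton_self _
  · rw [LinearMap.mem_ker] at hx
    change (Submodule.Quotient.mk (φ x) : PowerSeries k ⧸ Ideal.span ({φ f} : Set (PowerSeries k))) = 0 at hx
    rw [Submodule.Quotient.mk_eq_zero, Ideal.mem_span_singleton] at hx
    obtain ⟨c, hc⟩ := hx
    obtain ⟨c', rfl⟩ := hφ c
    rw [← map_mul, ← sub_eq_zero, ← map_sub, map_eq_zero_iff_dvd π hπ] at hc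
    obtain ⟨d, hd⟩ := hc
    rw [show x = d * p + c' * f by linear_combination hd]
    exact add_mem (Ideal.mul_mem_left _ _ (mem_pair_left _ _)) (Ideal.mul_mem_left _ _ (mem_pair_right _ _))

theorem smooth_colon (hπ : Irreducible π) (j i : ℕ) (hij : i < j) (γ : B) (hγ : IsUnit γ) (σ : P →+* P)
    (hσB : ∀ b : B, σ (algebraMap B P b) - algebraMap B P b ∈ Ideal.span ({algebraMap B P (π ^ j)} : Set P))
    (hσπ : σ (algebraMap B P π) = algebraMap B P (π + γ * π ^ j))
    (f : P) (hf : σ PowerSeries.X - PowerSeries.X = algebraMap B P (π ^ i) * f) (hfπ : ¬ algebraMap B P π ∣ f) :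
    len ((fixIdeal (σ : P → P)).colon ({algebraMap B P (π ^ i)} : Set P)) = ((j - i : ℕ) : ℕ∞) *
      Module.length (PowerSeries k) (PowerSeries k ⧸
        Ideal.span ({PowerSeries.map (IsLocalRing.residue B) f} : Set (PowerSeries k))) := by
  set p := algebraMap B P π with hp
  have hpj : algebraMap B P (π ^ j) = p ^ i * p ^ (j - i) := by rw [map_pow, ← pow_add, Nat.add_sub_cancel' hij.le]
  rw [map_pow, ← hp] at hf
  have hI : fixIdeal (σ : P → P) = Ideal.span ({p ^ i * p ^ (j - i), p ^ i * f} : Set P) := by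
    refine le_antisymm (fix_le σ _ ![PowerSeries.X] (fun l => ?_) (fun l => ?_) (Set.range (algebraMap B P)) ?_ fun r => ?_)
      (span_pair_le ?_ ?_)
    · fin_cases l
      show (PowerSeries.X : P) ∈ _
      rw [IsLocalRing.mem_maximalIdeal, mem_nonunits_iff, PowerSeries.isUnit_iff_constantCoeff, PowerSeries.constantCoeff_X]
      exact not_isUnit_zero
    · fin_cases l
      show σ PowerSeries.X - PowerSeries.X ∈ _
      rw [hf]; exact mem_pair_right _ _
    · rintro _ ⟨b, rfl⟩
      refine (Ideal.span_le.2 (Set.singleton_subset_iff.2 ?_)) (hσB b)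
      rw [SetLike.mem_coe, hpj]
      exact mem_pair_left _ _
    · refine ⟨algebraMap B P (PowerSeries.constantCoeff r), ⟨_, rfl⟩, ![PowerSeries.mk fun n => PowerSeries.coeff (n + 1) r], ?_⟩
      rw [Fin.sum_univ_one]
      ext n
      cases n with
      | zero => simp [PowerSeries.algebraMap_apply]
      | succ n => simp [PowerSeries.algebraMap_apply, PowerSeries.coeff_succ_X_mul, PowerSeries.coeff_C]
    · obtain ⟨G', hG'⟩ := (hγ.map (algebraMap B P)).exists_left_inv
      rw [show p ^ i * p ^ (j - i) = G' * (σ p - p) by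
        rw [hp, hσπ, map_add, map_mul, ← hp, hpj]
        linear_combination (-(p ^ i * p ^ (j - i))) * hG']
      exact Ideal.mul_mem_left _ _ (Ideal.subset_span ⟨p, rfl⟩)
    · rw [← hf]; exact Ideal.subset_span ⟨PowerSeries.X, rfl⟩
  rw [hI, map_pow, ← hp, colon_pair _ _ _ (pow_ne_zero _ (prime_pi π hπ).ne_zero),
    len_pow p f (regular_of_prime (prime_pi π hπ) hfπ), len_pi_pair π hπ]

end Smooth

section Node
variable {B : Type*} [CommRing B] [IsDomain B] [IsDiscreteValuationRing B] (π : B)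

local notation "N" => NodeAlg B π

/-- The fixed ideal when both branches are fixed. -/
theorem fix_eq (hπ : Irreducible π) (j : ℕ) (hj : 1 ≤ j) (γ : B) (hγ : IsUnit γ) (σ : N →+* N)
    (hσB : ∀ c : B, σ (algebraMap B N c) - algebraMap B N c ∈ Ideal.span ({algebraMap B N (π ^ j)} : Set N))
    (hσπ : σ (algebraMap B N π) = algebraMap B N (π + γ * π ^ j)) (α β : N)
    (ht : σ (NodeAlg.t π) = α * NodeAlg.t π) (he : σ (NodeAlg.e π) = β * NodeAlg.e π) :
    ((α - 1) + (β - 1) + (α - 1) * (β - 1) = algebraMap B N γ * (NodeAlg.t π * NodeAlg.e π) ^ (j - 1)) ∧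
      fixIdeal (σ : N → N) = Ideal.span ({NodeAlg.t π * (α - 1), NodeAlg.e π * (β - 1)} : Set N) := by
  obtain ⟨i, rfl⟩ : ∃ i, j = i + 1 := ⟨j - 1, by omega⟩
  rw [Nat.add_sub_cancel]
  haveI := isLocalRing_node π hπ
  haveI := isDomain_node π hπ
  set t := NodeAlg.t π with htdef
  set e := NodeAlg.e π with hedef
  set G := algebraMap B N γ with hG
  have hte : t * e = algebraMap B N π := te_eq π
  have hte0 : t * e ≠ 0 := mul_ne_zero (prime_t π hπ).ne_zero (prime_e π hπ).ne_zero
  have hab : (α - 1) + (β - 1) + (α - 1) * (β - 1) = G * (t * e) ^ i := by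
    refine mul_left_cancel₀ hte0 ?_
    have h := hσπ
    rw [map_add, map_mul, map_pow, ← hte, map_mul, ht, he] at h
    linear_combination h
  refine ⟨hab, le_antisymm (fix_le_node π hπ σ _ ?_ ?_ fun c => ?_) (span_pair_le ?_ ?_)⟩
  · rw [ht, show α * t - t = t * (α - 1) by ring]; exact mem_pair_left _ _
  · rw [he, show β * e - e = e * (β - 1) by ring]; exact mem_pair_right _ _
  · refine (Ideal.span_le.2 (Set.singleton_subset_iff.2 ?_)) (hσB c)
    obtain ⟨G', hG'⟩ := (hγ.map (algebraMap B N)).exists_left_inv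
    rw [← hG] at hG'
    rw [SetLike.mem_coe, map_pow, ← hte, show (t * e) ^ (i + 1) =
        G' * e * (t * (α - 1)) + G' * (t + t * (α - 1)) * (e * (β - 1)) by
      linear_combination (-((t * e) ^ (i + 1))) * hG' + (-(G' * (t * e))) * hab]
    exact add_mem (Ideal.mul_mem_left _ _ (mem_pair_left _ _)) (Ideal.mul_mem_left _ _ (mem_pair_right _ _))
  · rw [show t * (α - 1) = σ t - t by rw [ht]; ring]; exact Ideal.subset_span ⟨t, rfl⟩
  · rw [show e * (β - 1) = σ e - e by rw [he]; ring]; exact Ideal.subset_span ⟨e, rfl⟩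

theorem node_colon (hπ : Irreducible π) (j i₁ i₂ : ℕ) (h12 : i₁ ≤ i₂) (h2j : i₂ < j) (γ : B) (hγ : IsUnit γ)
    (σ : N →+* N)
    (hσB : ∀ c : B, σ (algebraMap B N c) - algebraMap B N c ∈ Ideal.span ({algebraMap B N (π ^ j)} : Set N))
    (hσπ : σ (algebraMap B N π) = algebraMap B N (π + γ * π ^ j)) (α β : Nˣ)
    (ht : σ (NodeAlg.t π) = α * NodeAlg.t π) (he : σ (NodeAlg.e π) = β * NodeAlg.e π) (a b : N)
    (ha : (α : N) - 1 = NodeAlg.t π ^ i₁ * NodeAlg.e π ^ i₂ * a)
    (hb : (β : N) - 1 = NodeAlg.t π ^ i₁ * NodeAlg.e π ^ i₂ * b)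
    (hea : ¬ NodeAlg.e π ∣ a) (htb : ¬ NodeAlg.t π ∣ b) :
    len ((fixIdeal (σ : N → N)).colon ({NodeAlg.t π ^ i₁ * NodeAlg.e π ^ i₂} : Set N)) =
      1 + ((j - i₁ : ℕ) : ℕ∞) * len (Ideal.span ({NodeAlg.t π, b} : Set N)) +
        ((j - i₂ : ℕ) : ℕ∞) * len (Ideal.span ({NodeAlg.e π, a} : Set N)) := by
  haveI := isLocalRing_node π hπ
  haveI := isDomain_node π hπ
  obtain ⟨hab, hI⟩ := fix_eq π hπ j (by omega) γ hγ σ hσB hσπ (α : N) (β : N) ht he
  set t := NodeAlg.t π with htdef
  set e := NodeAlg.e π with hedef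
  obtain ⟨p, hp⟩ : ∃ p, j = i₁ + p + 1 := ⟨j - 1 - i₁, by omega⟩
  obtain ⟨q, hq⟩ : ∃ q, j = i₂ + q + 1 := ⟨j - 1 - i₂, by omega⟩
  rw [show j - i₁ = p + 1 by omega, show j - i₂ = q + 1 by omega]
  set G := algebraMap B N γ with hG
  set D := t ^ i₁ * e ^ i₂ with hD
  have hD0 : D ≠ 0 := mul_ne_zero (pow_ne_zero _ (prime_t π hπ).ne_zero) (pow_ne_zero _ (prime_e π hπ).ne_zero)
  have hrel : a + b + D * a * b = G * (t ^ p * e ^ q) := by
    refine mul_left_cancel₀ hD0 ?_
    rw [ha, hb, mul_pow] at hab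
    conv_rhs at hab => rw [show j - 1 = i₁ + p by omega]; arg 2; arg 2; rw [show i₁ + p = i₂ + q by omega]
    rw [pow_add, pow_add] at hab
    linear_combination hab
  rw [hI, ha, hb, show t * (D * a) = D * (t * a) by ring, show e * (D * b) = D * (e * b) by ring,
    colon_pair _ _ _ hD0]
  have hteb : ¬ t ∣ e * b := fun h => ((prime_t π hπ).dvd_or_dvd h).elim (t_not_dvd_e π hπ) htb
  have re_t := regular_of_prime (prime_e π hπ) (e_not_dvd_t π hπ)
  have re_a := regular_of_prime (prime_e π hπ) hea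
  rw [len_prod t a _ (regular_of_prime (prime_t π hπ) hteb), len_comm t (e * b), len_prod e b t re_t,
    len_comm e t, len_max π hπ, len_comm a (e * b), len_prod e b a re_a, len_comm b t]
  have hu : IsUnit (1 + D * a) := by
    have : (α : N) = 1 + D * a := by linear_combination ha
    exact this ▸ α.isUnit
  have hfin : len (Ideal.span ({b, a} : Set N)) =
      (p : ℕ∞) * len (Ideal.span ({t, b} : Set N)) + (q : ℕ∞) * len (Ideal.span ({e, a} : Set N)) := by
    rw [len_comm b a, span_pair_congr a b (G * (t ^ p * e ^ q)) 1 (1 + D * a) hu (by linear_combination hrel),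
      ← span_pair_congr a (t ^ p * e ^ q) (G * (t ^ p * e ^ q)) 0 G (hγ.map _) (by ring), len_comm a]
    rcases Nat.eq_zero_or_pos p with hp0 | hp0
    · have hq0 : q = 0 := by omega
      subst hp0; subst hq0
      rw [len_comm, len_unit_pair _ _ (by simp)]
      simp
    obtain ⟨p', rfl⟩ : ∃ p', p = p' + 1 := ⟨p - 1, by omega⟩
    have hdiv : t ∣ G * (t ^ (p' + 1) * e ^ q) := ⟨G * (t ^ p' * e ^ q), by ring⟩
    have hta : ¬ t ∣ a := fun h => by
      refine ((prime_t π hπ).dvd_or_dvd (b := b) (a := 1 + D * a) ?_).elim ?_ htb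
      · rw [show (1 + D * a) * b = G * (t ^ (p' + 1) * e ^ q) - a by linear_combination hrel]
        exact dvd_sub hdiv h
      · exact fun h1 => (prime_t π hπ).not_isUnit (isUnit_of_dvd_unit h1 hu)
    have rt := regular_of_prime (prime_t π hπ) hta
    rw [len_prod _ _ _ (regular_pow rt _), len_pow t a rt, len_pow e a re_a]
    congr 3
    obtain ⟨c, hc⟩ := hdiv
    exact (span_pair_congr t b a c (-(1 + D * a)) hu.neg (by linear_combination -hrel - hc)).symm
  rw [hfin]
  push_cast
  ring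

theorem node_colon_max (hπ : Irreducible π) (j i₁ : ℕ) (h1 : i₁ < j) (γ : B) (hγ : IsUnit γ) (σ : N →+* N)
    (hσB : ∀ c : B, σ (algebraMap B N c) - algebraMap B N c ∈ Ideal.span ({algebraMap B N (π ^ j)} : Set N))
    (hσπ : σ (algebraMap B N π) = algebraMap B N (π + γ * π ^ j)) (α β : Nˣ)
    (ht : σ (NodeAlg.t π) = α * NodeAlg.t π) (he : σ (NodeAlg.e π) = β * NodeAlg.e π) (a b : N)
    (ha : (α : N) - 1 = NodeAlg.t π ^ i₁ * NodeAlg.e π ^ j * a)
    (hb : (β : N) - 1 = NodeAlg.t π ^ i₁ * NodeAlg.e π ^ (j - 1) * b)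
    (htb : ¬ NodeAlg.t π ∣ b) :
    len ((fixIdeal (σ : N → N)).colon ({NodeAlg.t π ^ i₁ * NodeAlg.e π ^ j} : Set N)) + ((j - 1 - i₁ : ℕ) : ℕ∞) =
      ((j - i₁ : ℕ) : ℕ∞) * len (Ideal.span ({NodeAlg.t π, b} : Set N)) := by
  haveI := isLocalRing_node π hπ
  haveI := isDomain_node π hπ
  obtain ⟨hab, hI⟩ := fix_eq π hπ j (by omega) γ hγ σ hσB hσπ (α : N) (β : N) ht he
  set t := NodeAlg.t π with htdef
  set e := NodeAlg.e π with hedef
  obtain ⟨p, rfl⟩ : ∃ p, j = i₁ + p + 1 := ⟨j - 1 - i₁, by omega⟩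
  simp only [show i₁ + p + 1 - 1 = i₁ + p by omega, show i₁ + p - i₁ = p by omega,
    show i₁ + p + 1 - i₁ = p + 1 by omega] at hab hb ⊢
  set G := algebraMap B N γ with hG
  set D := t ^ i₁ * e ^ (i₁ + p + 1) with hD
  set E₀ := t ^ i₁ * e ^ (i₁ + p) with hE
  have hD0 : D ≠ 0 := mul_ne_zero (pow_ne_zero _ (prime_t π hπ).ne_zero) (pow_ne_zero _ (prime_e π hπ).ne_zero)
  have hE0 : E₀ ≠ 0 := mul_ne_zero (pow_ne_zero _ (prime_t π hπ).ne_zero) (pow_ne_zero _ (prime_e π hπ).ne_zero)
  have hDE : D = e * E₀ := by rw [hD, hE]; ring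
  have hrel : e * a + b + D * a * b = G * t ^ p := by
    refine mul_left_cancel₀ hE0 ?_
    rw [ha, hb, mul_pow, pow_add t] at hab
    rw [hDE] at hab ⊢
    linear_combination hab
  rw [hI, ha, hb, show t * (D * a) = D * (t * a) by ring, show e * (E₀ * b) = D * b by rw [hDE]; ring,
    colon_pair _ _ _ hD0, len_prod t a b (regular_of_prime (prime_t π hπ) htb)]
  have hu : IsUnit (1 + D * a) := by
    have : (α : N) = 1 + D * a := by linear_combination ha
    exact this ▸ α.isUnit
  rw [span_pair_congr a b (G * t ^ p) e (1 + D * a) hu (by linear_combination hrel),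
    ← span_pair_congr a (t ^ p) (G * t ^ p) 0 G (hγ.map _) (by ring), len_comm a]
  rcases Nat.eq_zero_or_pos p with rfl | hp0
  · rw [len_comm (t ^ 0) a, len_unit_pair a _ (by simp)]
    simp
  obtain ⟨p', rfl⟩ : ∃ p', p = p' + 1 := ⟨p - 1, by omega⟩
  have hdiv : t ∣ G * t ^ (p' + 1) := ⟨G * t ^ p', by ring⟩
  have hta : ¬ t ∣ a := fun h => by
    refine ((prime_t π hπ).dvd_or_dvd (b := b) (a := 1 + D * a) ?_).elim ?_ htb
    · rw [show (1 + D * a) * b = G * t ^ (p' + 1) - e * a by linear_combination hrel]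
      exact dvd_sub hdiv (h.mul_left _)
    · exact fun h1' => (prime_t π hπ).not_isUnit (isUnit_of_dvd_unit h1' hu)
  have rt := regular_of_prime (prime_t π hπ) hta
  obtain ⟨c, hc⟩ := hdiv
  have hlb : len (Ideal.span ({t, b} : Set N)) = 1 + len (Ideal.span ({t, a} : Set N)) := by
    rw [span_pair_congr t b (e * a) (c) (-(1 + D * a)) hu.neg (by linear_combination -hrel - hc), len_comm t,
      len_prod e a t (regular_of_prime (prime_e π hπ) (e_not_dvd_t π hπ)), len_comm e t, len_max π hπ, len_comm a t]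
  rw [len_pow t a rt, hlb]
  push_cast
  ring

end Node

end NodeLib
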