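import Groth.Agent.NodeLib.Basic

/-! The formal node over a field. -/

namespace NodeLib
open MvPowerSeries ArLef

section Gen
variable {A : Type*} [CommRing A]

/-- lengths of quotients by the intersection and the sum of two ideals -/
theorem len_inf_add_sup (P Q : Ideal A) : len (P ⊓ Q) + len (P ⊔ Q) = len P + len Q := by
  let f : (A ⧸ (P ⊓ Q)) →ₗ[A] (A ⧸ P) × (A ⧸ Q) :=
    LinearMap.prod (Submodule.mapQ (P ⊓ Q) P LinearMap.id fun r hr => hr.1) (Submodule.mapQ (P ⊓ Q) Q LinearMap.id fun r hr => hr.2)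
  let g : (A ⧸ P) × (A ⧸ Q) →ₗ[A] (A ⧸ (P ⊔ Q)) :=
    LinearMap.coprod (Submodule.mapQ P (P ⊔ Q) LinearMap.id fun r hr => Submodule.mem_sup_left hr)
      (-(Submodule.mapQ Q (P ⊔ Q) LinearMap.id fun r hr => Submodule.mem_sup_right hr))
  have hf : Function.Injective f := by
    rw [injective_iff_map_eq_zero]
    intro x hx
    obtain ⟨r, rfl⟩ := Submodule.Quotient.mk_surjective _ x
    obtain ⟨h1, h2⟩ := Prod.mk_eq_zero.1 (show ((Submodule.Quotient.mk r : A ⧸ P), (Submodule.Quotient.mk r : A ⧸ Q)) = 0 from hx)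
    rw [Submodule.Quotient.mk_eq_zero] at h1 h2 ⊢
    exact ⟨h1, h2⟩
  have hg : Function.Surjective g := by
    intro x
    obtain ⟨r, rfl⟩ := Submodule.Quotient.mk_surjective _ x
    refine ⟨(Submodule.Quotient.mk r, 0), ?_⟩
    show (Submodule.Quotient.mk r : A ⧸ (P ⊔ Q)) + -(Submodule.Quotient.mk 0) = _
    simp
  have hex : Function.Exact f g := by
    rintro ⟨x, y⟩
    obtain ⟨r, rfl⟩ := Submodule.Quotient.mk_surjective P x
    obtain ⟨s, rfl⟩ := Submodule.Quotient.mk_surjective Q y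
    show (Submodule.Quotient.mk r : A ⧸ (P ⊔ Q)) + -(Submodule.Quotient.mk s) = 0 ↔ _
    rw [← sub_eq_add_neg, ← Submodule.Quotient.mk_sub, Submodule.Quotient.mk_eq_zero]
    constructor
    · intro h
      obtain ⟨p, hp, q, hq, e⟩ := Submodule.mem_sup.1 h
      refine ⟨Submodule.Quotient.mk (r - p), Prod.ext ((Submodule.Quotient.eq P).2 ?_) ((Submodule.Quotient.eq Q).2 ?_)⟩
      · simpa using hp
      · rw [LinearMap.id_apply, show r - p - s = q by linear_combination -e]; exact hq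
    · rintro ⟨z, hz⟩
      obtain ⟨w, rfl⟩ := Submodule.Quotient.mk_surjective _ z
      obtain ⟨h1, h2⟩ := Prod.mk.injEq .. ▸ (show ((Submodule.Quotient.mk w : A ⧸ P), (Submodule.Quotient.mk w : A ⧸ Q)) = (Submodule.Quotient.mk r, Submodule.Quotient.mk s) from hz)
      rw [Submodule.Quotient.eq] at h1 h2
      exact Submodule.mem_sup.2 ⟨_, P.neg_mem h1, _, h2, by ring⟩
  simp only [len]
  rw [← Module.length_eq_add_of_exact f g hf hg hex, Module.length_prod]

end Gen

section Fld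
variable {k : Type*} [Field k]

local notation "N" => NodeAlg k (0 : k)

theorem te_zero : NodeAlg.t (0 : k) * NodeAlg.e (0 : k) = 0 := by
  show Ideal.Quotient.mk _ (X 0) * Ideal.Quotient.mk _ (X 1) = (0 : N)
  rw [← map_mul, Ideal.Quotient.eq_zero_iff_mem]
  exact Ideal.subset_span (by simp)

/-- the constant term -/
noncomputable def fldConst : N →+* k :=
  Ideal.Quotient.lift _ MvPowerSeries.constantCoeff fun f hf => by
    obtain ⟨g, rfl⟩ := Ideal.mem_span_singleton.1 hf
    simp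

theorem nontrivial_fld : Nontrivial N := fldConst.domain_nontrivial

theorem isLocalRing_fld : IsLocalRing N :=
  haveI := nontrivial_fld (k := k)
  .of_surjective' (Ideal.Quotient.mk _) Ideal.Quotient.mk_surjective

theorem decomp_fld (r : N) : ∃ (u v : N), r = algebraMap k N (fldConst r) + NodeAlg.t 0 * u + NodeAlg.e 0 * v := by
  classical
  obtain ⟨f, rfl⟩ := Ideal.Quotient.mk_surjective r
  let f0 : MvPowerSeries (Fin 2) k := fun d => if d 0 = 0 ∧ d ≠ 0 then coeff d f else 0
  have h0 : ∀ d, coeff d f0 = if d 0 = 0 ∧ d ≠ 0 then coeff d f else 0 := fun d => rfl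
  obtain ⟨u, hu⟩ : (X 0 : MvPowerSeries (Fin 2) k) ∣ f - C (constantCoeff f) - f0 := by
    rw [X_dvd_iff]
    intro d hd
    rw [map_sub, map_sub, h0, coeff_C]
    by_cases hd0 : d = 0
    · subst hd0; simp
    · simp [hd, hd0]
  obtain ⟨v, hv⟩ : (X 1 : MvPowerSeries (Fin 2) k) ∣ f0 := by
    rw [X_dvd_iff]
    intro d hd
    rw [h0, if_neg]
    rintro ⟨h, h'⟩
    exact h' (Finsupp.ext fun i => by fin_cases i <;> simp [h, hd])
  refine ⟨Ideal.Quotient.mk _ u, Ideal.Quotient.mk _ v, ?_⟩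
  show _ = Ideal.Quotient.mk _ (algebraMap k (MvPowerSeries (Fin 2) k) (constantCoeff f)) + _ + _
  rw [← map_mul, ← map_mul, ← map_add, ← map_add]
  congr 1
  rw [MvPowerSeries.algebraMap_apply, ← hu, ← hv, Algebra.algebraMap_self, RingHom.id_apply]
  ring

theorem fldConst_t : fldConst (NodeAlg.t (0 : k)) = 0 := constantCoeff_X _
theorem fldConst_e : fldConst (NodeAlg.e (0 : k)) = 0 := constantCoeff_X _

theorem ker_fldConst : RingHom.ker (fldConst (k := k)) = Ideal.span {NodeAlg.t (0 : k), NodeAlg.e (0 : k)} := by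
  apply le_antisymm
  · intro r hr
    obtain ⟨u, v, e⟩ := decomp_fld r
    rw [e, RingHom.mem_ker.1 hr, map_zero (algebraMap k N), zero_add, mul_comm (NodeAlg.t 0), mul_comm (NodeAlg.e 0)]
    exact Ideal.mem_span_pair.2 ⟨u, v, rfl⟩
  · rw [Ideal.span_le]
    rintro _ (rfl | rfl)
    · exact fldConst_t
    · exact fldConst_e

theorem isMaximal_fld : (Ideal.span {NodeAlg.t (0 : k), NodeAlg.e (0 : k)} : Ideal N).IsMaximal :=
  ker_fldConst (k := k) ▸ RingHom.ker_isMaximal_of_surjective _ fun c => ⟨Ideal.Quotient.mk _ (C c), (Ideal.Quotient.lift_mk _ _ _).trans (constantCoeff_C c)⟩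

theorem len_max_fld : len (Ideal.span {NodeAlg.t (0 : k), NodeAlg.e (0 : k)} : Ideal N) = 1 := by
  haveI : IsSimpleModule N (N ⧸ (Ideal.span {NodeAlg.t (0 : k), NodeAlg.e (0 : k)} : Ideal N)) :=
    isSimpleModule_iff_isCoatom.2 isMaximal_fld.out
  exact Module.length_eq_one N _

theorem e_dvd_of_t_mul (x : N) (h : NodeAlg.e (0 : k) ∣ NodeAlg.t 0 * x) : NodeAlg.e (0 : k) ∣ x := by
  classical
  obtain ⟨f, rfl⟩ := Ideal.Quotient.mk_surjective x
  obtain ⟨y, hy⟩ := h
  obtain ⟨g, rfl⟩ := Ideal.Quotient.mk_surjective y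
  rw [← map_mul, ← map_mul, Ideal.Quotient.eq, Ideal.mem_span_singleton] at hy
  obtain ⟨q, hq⟩ := hy
  have hd : (X 1 : MvPowerSeries (Fin 2) k) ∣ X 0 * f := by
    refine ⟨g + X 0 * q, ?_⟩
    rw [map_zero, sub_zero] at hq
    linear_combination hq
  obtain ⟨f', hf'⟩ : (X 1 : MvPowerSeries (Fin 2) k) ∣ f := by
    rw [X_dvd_iff] at hd ⊢
    intro d hd1
    have := hd (Finsupp.single 0 1 + d) (by simp [hd1])
    rwa [X_def, coeff_add_monomial_mul, one_mul] at this
  exact ⟨Ideal.Quotient.mk _ f', by rw [hf', map_mul]⟩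

theorem len_fix_fld (σ : N →+* N) (hσk : ∀ c : k, σ (algebraMap k N c) = algebraMap k N c) (a b : N)
    (ht : σ (NodeAlg.t 0) = a * NodeAlg.t 0) (he : σ (NodeAlg.e 0) = b * NodeAlg.e 0) :
    len (fixIdeal (σ : N → N)) + 1 = len (fixIdeal (σ : N → N) ⊔ Ideal.span {NodeAlg.t 0})
      + len (fixIdeal (σ : N → N) ⊔ Ideal.span {NodeAlg.e 0}) := by
  haveI := isLocalRing_fld (k := k)
  haveI : IsNoetherianRing N := inferInstance
  set t : N := NodeAlg.t 0 with ht'
  set e : N := NodeAlg.e 0 with he'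
  set I := fixIdeal (σ : N → N) with hI
  have htI : t * (a - 1) ∈ I := Ideal.subset_span ⟨t, by show σ t - t = _; rw [ht]; ring⟩
  have heI : e * (b - 1) ∈ I := Ideal.subset_span ⟨e, by show σ e - e = _; rw [he]; ring⟩
  have hle : I ≤ Ideal.span {t * (a - 1), e * (b - 1)} := by
    refine fix_le σ _ ![t, e] ?_ ?_ (Set.range (algebraMap k N)) ?_ ?_
    · intro i
      refine IsLocalRing.le_maximalIdeal isMaximal_fld.ne_top ?_
      fin_cases i
      · exact Ideal.subset_span (Or.inl rfl)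
      · exact Ideal.subset_span (Or.inr rfl)
    · intro i
      fin_cases i
      · show σ t - t ∈ _
        rw [ht, show a * t - t = t * (a - 1) by ring]
        exact Ideal.subset_span (Or.inl rfl)
      · show σ e - e ∈ _
        rw [he, show b * e - e = e * (b - 1) by ring]
        exact Ideal.subset_span (Or.inr rfl)
    · rintro _ ⟨c, rfl⟩
      rw [hσk, sub_self]
      exact zero_mem _
    · intro r
      obtain ⟨u, v, huv⟩ := decomp_fld r
      exact ⟨_, ⟨_, rfl⟩, ![u, v], by rw [Fin.sum_univ_two]; simpa [add_assoc, ← ht', ← he'] using huv⟩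
  have hinf : (I ⊔ Ideal.span {t}) ⊓ (I ⊔ Ideal.span {e}) = I := by
    refine le_antisymm ?_ (le_inf le_sup_left le_sup_left)
    rintro x ⟨h1, h2⟩
    obtain ⟨i, hi, _, hy, rfl⟩ := Submodule.mem_sup.1 h1
    obtain ⟨u, rfl⟩ := Ideal.mem_span_singleton'.1 hy
    refine add_mem hi ?_
    obtain ⟨i', hi', _, hz, hxe⟩ := Submodule.mem_sup.1 h2
    obtain ⟨w, rfl⟩ := Ideal.mem_span_singleton'.1 hz
    obtain ⟨p, q, hpq⟩ := Ideal.mem_span_pair.1 (hle (Submodule.sub_mem _ hi' hi))
    have hd : e ∣ u - (a - 1) * p := e_dvd_of_t_mul _ ⟨q * (b - 1) + w, by linear_combination -hxe - hpq⟩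
    obtain ⟨s, hs⟩ := hd
    have : u * t = p * (t * (a - 1)) := by linear_combination t * hs + s * (te_zero (k := k))
    rw [this]
    exact I.mul_mem_left _ htI
  have hsup : (I ⊔ Ideal.span {t}) ⊔ (I ⊔ Ideal.span {e}) = Ideal.span {t, e} := by
    refine le_antisymm ?_ ?_
    · have hI' : I ≤ Ideal.span {t, e} := by
        refine hle.trans ?_
        rw [Ideal.span_le]
        rintro _ (rfl | rfl)
        · exact Ideal.mul_mem_right _ _ (Ideal.subset_span (Or.inl rfl))
        · exact Ideal.mul_mem_right _ _ (Ideal.subset_span (Or.inr rfl))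
      exact sup_le (sup_le hI' (Ideal.span_mono (by simp))) (sup_le hI' (Ideal.span_mono (by simp)))
    · rw [Ideal.span_le]
      rintro _ (rfl | rfl)
      · exact Submodule.mem_sup_left (Submodule.mem_sup_right (Ideal.mem_span_singleton_self _))
      · exact Submodule.mem_sup_right (Submodule.mem_sup_right (Ideal.mem_span_singleton_self _))
  have := len_inf_add_sup (I ⊔ Ideal.span {t}) (I ⊔ Ideal.span {e})
  rwa [hinf, hsup, len_max_fld] at this

end Fld

end NodeLib
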