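import Groth.Agent.NodeLib.Twist
import Mathlib.RingTheory.PowerSeries.Inverse
import Mathlib.RingTheory.PowerSeries.NoZeroDivisors

/-! The fixed locus at a smooth point. -/

namespace NodeLib
open ArLef

variable {B : Type*} [CommRing B] [IsDomain B] [IsDiscreteValuationRing B] (π : B)

local notation "P" => PowerSeries B
local notation "k" => IsLocalRing.ResidueField B

theorem map_eq_zero_iff_dvd (hπ : Irreducible π) (g : P) :
    PowerSeries.map (IsLocalRing.residue B) g = 0 ↔ algebraMap B P π ∣ g := by
  constructor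
  · intro h
    have hd : ∀ n, π ∣ PowerSeries.coeff n g := fun n => by
      have := congrArg (PowerSeries.coeff n) h
      rwa [PowerSeries.coeff_map, map_zero, IsLocalRing.residue_eq_zero_iff, hπ.maximalIdeal_eq, Ideal.mem_span_singleton] at this
    choose q hq using hd
    refine ⟨PowerSeries.mk q, ?_⟩
    ext n
    rw [PowerSeries.algebraMap_apply, Algebra.algebraMap_self, RingHom.id_apply, PowerSeries.coeff_C_mul, PowerSeries.coeff_mk, hq n]
  · rintro ⟨c, rfl⟩
    rw [map_mul, PowerSeries.algebraMap_apply, Algebra.algebraMap_self, RingHom.id_apply, PowerSeries.map_C,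
      (IsLocalRing.residue_eq_zero_iff _).2 hπ.not_isUnit, map_zero, zero_mul]

theorem smooth_case (hπ : Irreducible π) (i : ℕ) (γ : B) (hγ : IsUnit γ) (σ : P →+* P)
    (hσB : ∀ b : B, σ (algebraMap B P b) - algebraMap B P b ∈ Ideal.span ({algebraMap B P (π ^ (i + 1))} : Set P))
    (hσπ : σ (algebraMap B P π) = algebraMap B P (π + γ * π ^ (i + 1)))
    (h0 : ¬ algebraMap B P π ∣ σ PowerSeries.X - PowerSeries.X) :
    len (fixIdeal (σ : P → P)) = ((i + 1 : ℕ) : ℕ∞) *
      Module.length (PowerSeries k) (PowerSeries k ⧸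
        Ideal.span ({PowerSeries.map (IsLocalRing.residue B) (σ PowerSeries.X - PowerSeries.X)} : Set (PowerSeries k))) := by
  set f := σ PowerSeries.X - PowerSeries.X with hf
  set p := algebraMap B P π with hp
  have hI : fixIdeal (σ : P → P) = Ideal.span ({p ^ (i + 1), f} : Set P) := by
    refine le_antisymm (fix_le σ _ ![PowerSeries.X] (fun l => ?_) (fun l => ?_) (Set.range (algebraMap B P)) ?_ fun r => ?_)
      (span_pair_le ?_ ?_)
    · fin_cases l
      show (PowerSeries.X : P) ∈ _
      rw [IsLocalRing.mem_maximalIdeal, mem_nonunits_iff, PowerSeries.isUnit_iff_constantCoeff, PowerSeries.constantCoeff_X]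
      exact not_isUnit_zero
    · fin_cases l
      exact Ideal.subset_span (by simp [hf])
    · rintro _ ⟨b, rfl⟩
      refine (Ideal.span_le.2 (Set.singleton_subset_iff.2 ?_)) (hσB b)
      rw [SetLike.mem_coe, map_pow]
      exact Ideal.subset_span (by simp [hp])
    · refine ⟨algebraMap B P (PowerSeries.constantCoeff r), ⟨_, rfl⟩, ![PowerSeries.mk fun n => PowerSeries.coeff (n + 1) r], ?_⟩
      rw [Fin.sum_univ_one]
      ext n
      cases n with
      | zero => simp [PowerSeries.algebraMap_apply]
      | succ n => simp [PowerSeries.algebraMap_apply, PowerSeries.coeff_succ_X_mul, PowerSeries.coeff_C]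
    · obtain ⟨G', hG'⟩ := (hγ.map (algebraMap B P)).exists_left_inv
      rw [show p ^ (i + 1) = G' * (σ p - p) by
        rw [hp, hσπ, map_add, map_mul, map_pow]; linear_combination (-(algebraMap B P π ^ (i + 1))) * hG']
      exact Ideal.mul_mem_left _ _ (Ideal.subset_span ⟨p, rfl⟩)
    · exact Ideal.subset_span ⟨PowerSeries.X, rfl⟩
  have hprime : Prime p := by
    refine ⟨fun h => hπ.ne_zero ?_, fun h => hπ.not_isUnit ?_, fun a b h => ?_⟩
    · simpa [hp, PowerSeries.algebraMap_apply] using congrArg PowerSeries.constantCoeff h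
    · simpa [hp, PowerSeries.algebraMap_apply] using h.map PowerSeries.constantCoeff
    · rw [← map_eq_zero_iff_dvd π hπ, ← map_eq_zero_iff_dvd π hπ]
      rw [← map_eq_zero_iff_dvd π hπ, map_mul, mul_eq_zero] at h
      exact h
  rw [hI, len_pow p f (regular_of_prime hprime h0)]
  congr 1
  let φ : P →+* PowerSeries k := PowerSeries.map (IsLocalRing.residue B)
  have hφ : Function.Surjective φ := PowerSeries.map_surjective _ IsLocalRing.residue_surjective
  letI : Algebra P (PowerSeries k) := φ.toAlgebra
  rw [← Module.length_eq_of_surjective (S := P) (R := PowerSeries k)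
    (M := PowerSeries k ⧸ Ideal.span ({φ f} : Set (PowerSeries k))) hφ, len]
  refine LinearEquiv.length_eq ?_
  let L : P →ₗ[P] (PowerSeries k ⧸ Ideal.span ({φ f} : Set (PowerSeries k))) :=
    ((Ideal.span ({φ f} : Set (PowerSeries k))).mkQ.restrictScalars P).comp (Algebra.linearMap P (PowerSeries k))
  have hL : Function.Surjective L := fun x => by
    obtain ⟨y, rfl⟩ := Submodule.Quotient.mk_surjective _ x
    obtain ⟨z, rfl⟩ := hφ y
    exact ⟨z, rfl⟩
  refine (Submodule.quotEquivOfEq _ _ ?_).trans (LinearMap.quotKerEquivOfSurjective L hL)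
  refine le_antisymm (span_pair_le ?_ ?_) fun x hx => ?_
  · rw [LinearMap.mem_ker]
    show (Submodule.Quotient.mk (φ p) : PowerSeries k ⧸ Ideal.span ({φ f} : Set (PowerSeries k))) = 0
    rw [(map_eq_zero_iff_dvd π hπ p).2 dvd_rfl]
    rfl
  · rw [LinearMap.mem_ker]
    show (Submodule.Quotient.mk (φ f) : PowerSeries k ⧸ Ideal.span ({φ f} : Set (PowerSeries k))) = 0
    rw [Submodule.Quotient.mk_eq_zero]
    exact Ideal.mem_span_singleton_self _
  · rw [LinearMap.mem_ker] at hx
    change (Submodule.Quotient.mk (φ x) : PowerSeries k ⧸ Ideal.span ({φ f} : Set (PowerSeries k))) = 0 at hx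
    rw [Submodule.Quotient.mk_eq_zero, Ideal.mem_span_singleton] at hx
    obtain ⟨c, hc⟩ := hx
    obtain ⟨c', rfl⟩ := hφ c
    rw [← map_mul, ← sub_eq_zero, ← map_sub, map_eq_zero_iff_dvd π hπ] at hc
    obtain ⟨d, hd⟩ := hc
    rw [show x = d * p + c' * f by linear_combination hd]
    exact add_mem (Ideal.mul_mem_left _ _ (Ideal.subset_span (by simp))) (Ideal.mul_mem_left _ _ (Ideal.subset_span (by simp)))

end NodeLib
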