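import Groth.Agent.NodeLib.Basic

/-! The node is a local domain in which both branch parameters are prime. -/

namespace NodeLib
open ArLef

variable {B : Type*} [CommRing B] [IsDomain B] [IsDiscreteValuationRing B] (π : B)

local notation "N" => NodeAlg B π

theorem t_mem_max (hπ : Irreducible π) : haveI := isLocalRing_node π hπ
    NodeAlg.t π ∈ IsLocalRing.maximalIdeal N := by
  haveI := isLocalRing_node π hπ
  rw [IsLocalRing.mem_maximalIdeal, mem_nonunits_iff]
  intro h
  have := h.map (branch π hπ 1)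
  rw [(branch_t π hπ).1] at this
  exact not_isUnit_zero this

theorem e_mem_max (hπ : Irreducible π) : haveI := isLocalRing_node π hπ
    NodeAlg.e π ∈ IsLocalRing.maximalIdeal N := by
  haveI := isLocalRing_node π hπ
  rw [IsLocalRing.mem_maximalIdeal, mem_nonunits_iff]
  intro h
  have := h.map (branch π hπ 0)
  rw [(branch_e π hπ).1] at this
  exact not_isUnit_zero this

theorem t_not_dvd_e (hπ : Irreducible π) : ¬ NodeAlg.t π ∣ NodeAlg.e π := fun h =>
  PowerSeries.X_ne_zero ((branch_e π hπ).2 ▸ ((branch_ker π hπ _).1).2 h)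

theorem e_not_dvd_t (hπ : Irreducible π) : ¬ NodeAlg.e π ∣ NodeAlg.t π := fun h =>
  PowerSeries.X_ne_zero ((branch_t π hπ).2 ▸ ((branch_ker π hπ _).2).2 h)

theorem t_dvd_mul (hπ : Irreducible π) {a b : N} (h : NodeAlg.t π ∣ a * b) : NodeAlg.t π ∣ a ∨ NodeAlg.t π ∣ b := by
  rw [← (branch_ker π hπ _).1, ← (branch_ker π hπ _).1]
  have := ((branch_ker π hπ _).1).2 h
  rwa [map_mul, mul_eq_zero] at this

theorem e_dvd_mul (hπ : Irreducible π) {a b : N} (h : NodeAlg.e π ∣ a * b) : NodeAlg.e π ∣ a ∨ NodeAlg.e π ∣ b := by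
  rw [← (branch_ker π hπ _).2, ← (branch_ker π hπ _).2]
  have := ((branch_ker π hπ _).2).2 h
  rwa [map_mul, mul_eq_zero] at this

theorem isDomain_node (hπ : Irreducible π) : IsDomain N := by
  haveI := isLocalRing_node π hπ
  haveI : NoZeroDivisors N := by
    refine ⟨fun {a b} hab => ?_⟩
    by_contra! h
    have split : ∀ a : N, a ≠ 0 → ∃ (n : ℕ) (a' : N), a = NodeAlg.t π ^ n * a' ∧ ¬ NodeAlg.t π ∣ a' := by
      intro a ha
      by_contra! hn
      have hall : ∀ n, NodeAlg.t π ^ n ∣ a := by
        intro n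
        induction n with
        | zero => simp
        | succ n ih =>
          obtain ⟨a', ha'⟩ := ih
          obtain ⟨a'', rfl⟩ := hn n a' ha'
          exact ⟨a'', by rw [ha', pow_succ, mul_assoc]⟩
      apply ha
      have h0 := Ideal.iInf_pow_eq_bot_of_isLocalRing (IsLocalRing.maximalIdeal N) (IsLocalRing.maximalIdeal.isMaximal N).ne_top
      rw [Submodule.eq_bot_iff] at h0
      refine h0 a ((Submodule.mem_iInf _).2 fun n => ?_)
      obtain ⟨c, hc⟩ := hall n
      rw [hc]
      exact Ideal.mul_mem_right _ _ (Ideal.pow_mem_pow (t_mem_max π hπ) n)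
    obtain ⟨n, a', rfl, ha'⟩ := split a h.1
    obtain ⟨m, b', rfl, hb'⟩ := split b h.2
    have hz : ∀ (l : ℕ) (c : N), NodeAlg.t π ^ l * c = 0 → c = 0 := by
      intro l
      induction l with
      | zero => intro c hc; simpa using hc
      | succ l ih => intro c hc; rw [pow_succ, mul_assoc] at hc; exact t_regular π hπ c (ih _ hc)
    have e0 : a' * b' = 0 := hz (n + m) _ (by rw [← hab]; ring)
    rcases t_dvd_mul π hπ (e0 ▸ dvd_zero _ : NodeAlg.t π ∣ a' * b') with h' | h'
    · exact ha' h'
    · exact hb' h'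
  exact NoZeroDivisors.to_isDomain _

theorem prime_t (hπ : Irreducible π) : Prime (NodeAlg.t π) := by
  haveI := isLocalRing_node π hπ
  refine ⟨fun h => t_not_dvd_e π hπ ?_, (IsLocalRing.mem_maximalIdeal _).1 (t_mem_max π hπ), fun a b => t_dvd_mul π hπ⟩
  have := (branch_t π hπ).2
  rw [h, map_zero] at this
  exact absurd this.symm PowerSeries.X_ne_zero

theorem prime_e (hπ : Irreducible π) : Prime (NodeAlg.e π) := by
  haveI := isLocalRing_node π hπ
  refine ⟨fun h => e_not_dvd_t π hπ ?_, (IsLocalRing.mem_maximalIdeal _).1 (e_mem_max π hπ), fun a b => e_dvd_mul π hπ⟩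
  have := (branch_e π hπ).2
  rw [h, map_zero] at this
  exact absurd this.symm PowerSeries.X_ne_zero

theorem map_pi_mem_max (hπ : Irreducible π) : haveI := isLocalRing_node π hπ
    algebraMap B N π ∈ IsLocalRing.maximalIdeal N := by
  haveI := isLocalRing_node π hπ
  rw [← te_eq]
  exact Ideal.mul_mem_right _ _ (t_mem_max π hπ)

/-- the maximal ideal -/
theorem max_eq (hπ : Irreducible π) : haveI := isLocalRing_node π hπ
    IsLocalRing.maximalIdeal N = Ideal.span ({NodeAlg.t π, NodeAlg.e π} : Set N) := by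
  haveI := isLocalRing_node π hπ
  refine le_antisymm (fun r hr => ?_) (Ideal.span_le.2 ?_)
  · obtain ⟨b, u, v, rfl⟩ := decomp π r
    refine add_mem (add_mem ?_ (Ideal.mul_mem_right _ _ (Ideal.subset_span (by simp))))
      (Ideal.mul_mem_right _ _ (Ideal.subset_span (by simp)))
    by_cases hb : IsUnit b
    · exfalso
      have hm : algebraMap B N b ∈ IsLocalRing.maximalIdeal N := by
        have := Submodule.sub_mem _ (Submodule.sub_mem _ hr (Ideal.mul_mem_right v _ (e_mem_max π hπ))) (Ideal.mul_mem_right u _ (t_mem_max π hπ))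
        rwa [add_sub_cancel_right, add_sub_cancel_right] at this
      exact (IsLocalRing.mem_maximalIdeal _).1 hm (hb.map _)
    · obtain ⟨c, rfl⟩ : π ∣ b := by
        rw [← Ideal.mem_span_singleton, ← hπ.maximalIdeal_eq]; exact hb
      rw [map_mul, ← te_eq, mul_assoc]
      exact Ideal.mul_mem_right _ _ (Ideal.subset_span (by simp))
  · rintro x (rfl | rfl)
    · exact t_mem_max π hπ
    · exact e_mem_max π hπ

theorem len_max (hπ : Irreducible π) : len (Ideal.span ({NodeAlg.t π, NodeAlg.e π} : Set N)) = 1 := by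
  haveI := isLocalRing_node π hπ
  rw [← max_eq π hπ, len, Module.length_eq_one_iff, isSimpleModule_iff_isCoatom]
  exact Ideal.isMaximal_def.1 (IsLocalRing.maximalIdeal.isMaximal N)

/-- fixed ideals in the node from the values on generators -/
theorem fix_le_node (hπ : Irreducible π) (σ : N →+* N) (I : Ideal N) (ht : σ (NodeAlg.t π) - NodeAlg.t π ∈ I)
    (he : σ (NodeAlg.e π) - NodeAlg.e π ∈ I) (hB : ∀ b : B, σ (algebraMap B N b) - algebraMap B N b ∈ I) :
    fixIdeal (σ : N → N) ≤ I := by
  haveI := isLocalRing_node π hπ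
  refine fix_le σ I ![NodeAlg.t π, NodeAlg.e π] (fun i => ?_) (fun i => ?_) (Set.range (algebraMap B N)) ?_ fun r => ?_
  · fin_cases i
    · exact t_mem_max π hπ
    · exact e_mem_max π hπ
  · fin_cases i
    · exact ht
    · exact he
  · rintro _ ⟨b, rfl⟩; exact hB b
  · obtain ⟨b, u, v, h⟩ := decomp π r
    exact ⟨_, ⟨b, rfl⟩, ![u, v], by rw [h, Fin.sum_univ_two]; simp [add_assoc]⟩

end NodeLib
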