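import Groth.Agent.NodeLib.Struct

/-! Lengths of fixed loci at a double point lying over a nontrivial automorphism of the base. -/

namespace NodeLib
open ArLef

section Gen
variable {A : Type*} [CommRing A]

theorem len_comm (x y : A) : len (Ideal.span ({x, y} : Set A)) = len (Ideal.span ({y, x} : Set A)) := by
  rw [Set.pair_comm]

theorem regular_pow {p x : A} (hp : ∀ r, x ∣ p * r → x ∣ r) : ∀ (n : ℕ) (r : A), x ∣ p ^ n * r → x ∣ r
  | 0, r, h => by simpa using h
  | n + 1, r, h => by
    refine hp r (regular_pow hp n (p * r) ?_)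
    rwa [← mul_assoc, ← pow_succ]

theorem span_pair_le {x y : A} {J : Ideal A} (hx : x ∈ J) (hy : y ∈ J) : Ideal.span ({x, y} : Set A) ≤ J := by
  rw [Ideal.span_le]
  rintro z (rfl | rfl)
  · exact hx
  · exact hy

theorem unit_of_dvd_prod [IsDomain A] {t e : A} (ht : Prime t) (he : Prime e) (g : A) (hgt : ¬ t ∣ g) (hge : ¬ e ∣ g) :
    ∀ a b : ℕ, g ∣ t ^ a * e ^ b → IsUnit g
  | 0, 0, h => isUnit_of_dvd_one (by simpa using h)
  | 0, b + 1, h => by
    obtain ⟨s, hs⟩ := h
    obtain ⟨s', rfl⟩ := (he.dvd_or_dvd (hs ▸ Dvd.intro (t ^ 0 * e ^ b) (by ring) : e ∣ g * s)).resolve_left hge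
    exact unit_of_dvd_prod ht he g hgt hge 0 b ⟨s', mul_left_cancel₀ he.ne_zero (by linear_combination hs)⟩
  | a + 1, b, h => by
    obtain ⟨s, hs⟩ := h
    obtain ⟨s', rfl⟩ := (ht.dvd_or_dvd (hs ▸ Dvd.intro (t ^ a * e ^ b) (by ring) : t ∣ g * s)).resolve_left hgt
    exact unit_of_dvd_prod ht he g hgt hge a b ⟨s', mul_left_cancel₀ ht.ne_zero (by linear_combination hs)⟩

end Gen

variable {B : Type*} [CommRing B] [IsDomain B] [IsDiscreteValuationRing B] (π : B)

local notation "N" => NodeAlg B π

theorem swap_case (hπ : Irreducible π) (i : ℕ) (γ : B) (hγ : IsUnit γ) (σ : N →+* N)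
    (hσB : ∀ b : B, σ (algebraMap B N b) - algebraMap B N b ∈ Ideal.span ({algebraMap B N (π ^ (i + 1))} : Set N))
    (hσπ : σ (algebraMap B N π) = algebraMap B N (π + γ * π ^ (i + 1))) (α β : Nˣ)
    (ht : NodeAlg.e π * α = σ (NodeAlg.t π)) (he : NodeAlg.t π * β = σ (NodeAlg.e π)) :
    (∀ g : N, fixIdeal (σ : N → N) ≤ Ideal.span ({g} : Set N) → IsUnit g) ∧
      len (fixIdeal (σ : N → N)) = ((2 * i + 1 : ℕ) : ℕ∞) := by
  haveI := isLocalRing_node π hπ
  haveI := isDomain_node π hπ
  set t := NodeAlg.t π with htdef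
  set e := NodeAlg.e π with hedef
  set G := algebraMap B N γ with hG
  have hte : t * e = algebraMap B N π := te_eq π
  have hab : (α : N) * β = 1 + G * (t * e) ^ i := by
    refine mul_left_cancel₀ (mul_ne_zero (prime_t π hπ).ne_zero (prime_e π hπ).ne_zero) ?_
    have h := hσπ
    rw [map_add, map_mul, map_pow, ← hte, map_mul, ← ht, ← he] at h
    linear_combination h
  set h := t - e * (α : N) with hh
  have hI : fixIdeal (σ : N → N) = Ideal.span ({t ^ i * e ^ (i + 1), h} : Set N) := by
    refine le_antisymm (fix_le_node π hπ σ _ ?_ ?_ fun b => ?_) (span_pair_le ?_ ?_)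
    · rw [← ht, show e * (α : N) - t = -1 * h by rw [hh]; ring]
      exact Ideal.mul_mem_left _ _ (Ideal.subset_span (by simp))
    · rw [← he, show t * (β : N) - e = (β : N) * h + G * (t ^ i * e ^ (i + 1)) by rw [hh]; linear_combination e * hab]
      exact add_mem (Ideal.mul_mem_left _ _ (Ideal.subset_span (by simp))) (Ideal.mul_mem_left _ _ (Ideal.subset_span (by simp)))
    · refine (Ideal.span_le.2 (Set.singleton_subset_iff.2 ?_)) (hσB b)
      rw [SetLike.mem_coe, map_pow, ← hte, show (t * e) ^ (i + 1) = t * (t ^ i * e ^ (i + 1)) by ring]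
      exact Ideal.mul_mem_left _ _ (Ideal.subset_span (by simp))
    · obtain ⟨G', hG'⟩ := (hγ.map (algebraMap B N)).exists_left_inv
      rw [← hG] at hG'
      rw [show t ^ i * e ^ (i + 1) = G' * ((σ e - e) + (β : N) * (σ t - t)) by
        rw [← ht, ← he]; linear_combination (-(t ^ i * e ^ (i + 1))) * hG' + (-(G' * e)) * hab]
      exact Ideal.mul_mem_left _ _ (add_mem (Ideal.subset_span ⟨e, rfl⟩) (Ideal.mul_mem_left _ _ (Ideal.subset_span ⟨t, rfl⟩)))
    · rw [show h = -1 * (σ t - t) by rw [hh, ← ht]; ring]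
      exact Ideal.mul_mem_left _ _ (Ideal.subset_span ⟨t, rfl⟩)
  have hht : ¬ t ∣ h := fun hd => by
    have hd' : t ∣ e * (α : N) := by
      have := dvd_sub (dvd_refl t) hd
      rwa [hh, sub_sub_cancel] at this
    exact t_not_dvd_e π hπ (Units.dvd_mul_right.1 hd')
  have hhe : ¬ e ∣ h := fun hd => by
    have := dvd_add hd (dvd_mul_right e (α : N))
    rw [hh, sub_add_cancel] at this
    exact e_not_dvd_t π hπ this
  refine ⟨fun g hg => ?_, ?_⟩
  · rw [hI] at hg
    have h1 := Ideal.mem_span_singleton.1 (hg (Ideal.subset_span (by simp : t ^ i * e ^ (i + 1) ∈ ({t ^ i * e ^ (i + 1), h} : Set N))))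
    have h2 := Ideal.mem_span_singleton.1 (hg (Ideal.subset_span (by simp : h ∈ ({t ^ i * e ^ (i + 1), h} : Set N))))
    exact unit_of_dvd_prod (prime_t π hπ) (prime_e π hπ) g (fun ht' => hht (ht'.trans h2)) (fun he' => hhe (he'.trans h2)) i (i + 1) h1
  · have rt := regular_of_prime (prime_t π hπ) hht
    have re := regular_of_prime (prime_e π hπ) hhe
    have e1 : Ideal.span ({t, h} : Set N) = Ideal.span ({t, e} : Set N) := by
      refine le_antisymm (span_pair_le (Ideal.subset_span (by simp)) ?_) (span_pair_le (Ideal.subset_span (by simp)) ?_)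
      · rw [hh]; exact sub_mem (Ideal.subset_span (by simp)) (Ideal.mul_mem_right _ _ (Ideal.subset_span (by simp)))
      · rw [show e = ((α⁻¹ : Nˣ) : N) * (t - h) by rw [hh, sub_sub_cancel, mul_comm e, ← mul_assoc, Units.inv_mul, one_mul]]
        exact Ideal.mul_mem_left _ _ (sub_mem (Ideal.subset_span (by simp)) (Ideal.subset_span (by simp)))
    have e2 : Ideal.span ({e, h} : Set N) = Ideal.span ({t, e} : Set N) := by
      refine le_antisymm (span_pair_le (Ideal.subset_span (by simp)) ?_) (span_pair_le ?_ (Ideal.subset_span (by simp)))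
      · rw [hh]; exact sub_mem (Ideal.subset_span (by simp)) (Ideal.mul_mem_right _ _ (Ideal.subset_span (by simp)))
      · rw [show t = h + e * (α : N) by rw [hh]; ring]
        exact add_mem (Ideal.subset_span (by simp)) (Ideal.mul_mem_right _ _ (Ideal.subset_span (by simp)))
    rw [hI, len_prod _ _ _ (regular_pow rt i), len_pow t h rt, len_pow e h re, e1, e2, len_max π hπ, mul_one, mul_one,
      ← Nat.cast_add]
    congr 1
    omega

theorem fix_case (hπ : Irreducible π) (i : ℕ) (γ : B) (hγ : IsUnit γ) (σ : N →+* N)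
    (hσB : ∀ b : B, σ (algebraMap B N b) - algebraMap B N b ∈ Ideal.span ({algebraMap B N (π ^ (i + 1))} : Set N))
    (hσπ : σ (algebraMap B N π) = algebraMap B N (π + γ * π ^ (i + 1))) (α β : Nˣ)
    (ht : σ (NodeAlg.t π) = α * NodeAlg.t π) (he : σ (NodeAlg.e π) = β * NodeAlg.e π)
    (htb : ¬ NodeAlg.t π ∣ (β : N) - 1) (hea : ¬ NodeAlg.e π ∣ (α : N) - 1) :
    len (fixIdeal (σ : N → N)) = ((i + 1 : ℕ) : ℕ∞) * (len (Ideal.span ({NodeAlg.t π, (β : N) - 1} : Set N)) +
      len (Ideal.span ({NodeAlg.e π, (α : N) - 1} : Set N))) + 1 := by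
  haveI := isLocalRing_node π hπ
  haveI := isDomain_node π hπ
  set t := NodeAlg.t π with htdef
  set e := NodeAlg.e π with hedef
  set G := algebraMap B N γ with hG
  set a := (α : N) - 1 with ha
  set b := (β : N) - 1 with hb
  have hte : t * e = algebraMap B N π := te_eq π
  have hte0 : t * e ≠ 0 := mul_ne_zero (prime_t π hπ).ne_zero (prime_e π hπ).ne_zero
  have hab : a + b + a * b = G * (t * e) ^ i := by
    refine mul_left_cancel₀ hte0 ?_
    have h := hσπ
    rw [map_add, map_mul, map_pow, ← hte, map_mul, ht, he] at h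
    linear_combination h + (t * e) * (1 + b) * ha + (t * e) * (α : N) * hb
  have hI : fixIdeal (σ : N → N) = Ideal.span ({t * a, e * b} : Set N) := by
    refine le_antisymm (fix_le_node π hπ σ _ ?_ ?_ fun c => ?_) (span_pair_le ?_ ?_)
    · rw [ht, show (α : N) * t - t = t * a by rw [ha]; ring]; exact Ideal.subset_span (by simp)
    · rw [he, show (β : N) * e - e = e * b by rw [hb]; ring]; exact Ideal.subset_span (by simp)
    · refine (Ideal.span_le.2 (Set.singleton_subset_iff.2 ?_)) (hσB c)
      obtain ⟨G', hG'⟩ := (hγ.map (algebraMap B N)).exists_left_inv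
      rw [← hG] at hG'
      rw [SetLike.mem_coe, map_pow, ← hte, show (t * e) ^ (i + 1) = G' * e * (t * a) + G' * (t + t * a) * (e * b) by
        linear_combination (-((t * e) ^ (i + 1))) * hG' + (-(G' * (t * e))) * hab]
      exact add_mem (Ideal.mul_mem_left _ _ (Ideal.subset_span (by simp))) (Ideal.mul_mem_left _ _ (Ideal.subset_span (by simp)))
    · rw [show t * a = σ t - t by rw [ht, ha]; ring]; exact Ideal.subset_span ⟨t, rfl⟩
    · rw [show e * b = σ e - e by rw [he, hb]; ring]; exact Ideal.subset_span ⟨e, rfl⟩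
  have hteb : ¬ t ∣ e * b := fun h => ((prime_t π hπ).dvd_or_dvd h).elim (t_not_dvd_e π hπ) htb
  have re_t := regular_of_prime (prime_e π hπ) (e_not_dvd_t π hπ)
  have re_a := regular_of_prime (prime_e π hπ) hea
  rw [hI, len_prod t a _ (regular_of_prime (prime_t π hπ) hteb), len_comm t (e * b), len_prod e b t re_t,
    len_comm e t, len_max π hπ, len_comm a (e * b), len_prod e b a re_a, len_comm b t]
  have hfin : len (Ideal.span ({b, a} : Set N)) = (i : ℕ∞) * (len (Ideal.span ({t, b} : Set N)) + len (Ideal.span ({e, a} : Set N))) := by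
    have e0 : Ideal.span ({b, a} : Set N) = Ideal.span ({(t * e) ^ i, a} : Set N) := by
      refine le_antisymm (span_pair_le ?_ (Ideal.subset_span (by simp))) (span_pair_le ?_ (Ideal.subset_span (by simp)))
      · rw [show b = G * (t * e) ^ i + (-(1 + b)) * a by linear_combination hab]
        exact add_mem (Ideal.mul_mem_left _ _ (Ideal.subset_span (by simp))) (Ideal.mul_mem_left _ _ (Ideal.subset_span (by simp)))
      · obtain ⟨G', hG'⟩ := (hγ.map (algebraMap B N)).exists_left_inv
        rw [← hG] at hG'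
        rw [show (t * e) ^ i = G' * (1 + b) * a + G' * b by linear_combination (-((t * e) ^ i)) * hG' + (-G') * hab]
        exact add_mem (Ideal.mul_mem_left _ _ (Ideal.subset_span (by simp))) (Ideal.mul_mem_left _ _ (Ideal.subset_span (by simp)))
    rw [e0]
    rcases Nat.eq_zero_or_pos i with rfl | hi
    · rw [pow_zero, Nat.cast_zero, zero_mul, len, Module.length_eq_zero_iff, Submodule.Quotient.subsingleton_iff, Ideal.eq_top_iff_one]
      exact Ideal.subset_span (by simp)
    obtain ⟨i', rfl⟩ : ∃ i', i = i' + 1 := ⟨i - 1, by omega⟩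
    have hdiv : t ∣ G * (t * e) ^ (i' + 1) := ⟨G * (t * e) ^ i' * e, by ring⟩
    have hta : ¬ t ∣ a := fun h => htb (by
      rw [show b = G * (t * e) ^ (i' + 1) + (-(1 + b)) * a by linear_combination hab]
      exact dvd_add hdiv (h.mul_left _))
    have rt := regular_of_prime (prime_t π hπ) hta
    rw [mul_pow, len_prod _ _ _ (regular_pow rt _), len_pow t a rt, len_pow e a re_a, mul_add]
    congr 2
    have e1 : Ideal.span ({t, a} : Set N) = Ideal.span ({t, b} : Set N) := by
      obtain ⟨c, hc⟩ := hdiv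
      refine le_antisymm (span_pair_le (Ideal.subset_span (by simp)) ?_) (span_pair_le (Ideal.subset_span (by simp)) ?_)
      · rw [show a = ((β⁻¹ : Nˣ) : N) * c * t + (-((β⁻¹ : Nˣ) : N)) * b by
          have hu : ((β⁻¹ : Nˣ) : N) * (1 + b) = 1 := by rw [hb, add_sub_cancel, Units.inv_mul]
          linear_combination (-a) * hu + ((β⁻¹ : Nˣ) : N) * hab + ((β⁻¹ : Nˣ) : N) * hc]
        exact add_mem (Ideal.mul_mem_left _ _ (Ideal.subset_span (by simp))) (Ideal.mul_mem_left _ _ (Ideal.subset_span (by simp)))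
      · rw [show b = c * t + (-(1 + b)) * a by linear_combination hab + hc]
        exact add_mem (Ideal.mul_mem_left _ _ (Ideal.subset_span (by simp))) (Ideal.mul_mem_left _ _ (Ideal.subset_span (by simp)))
    rw [e1]
  rw [hfin]
  push_cast
  ring

end NodeLib
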